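import Cfsg.Agent.XC.C

/-! Extremely closed abelian `p`-subgroups, `p` odd: the canonical conjugating elements form a normal subgroup. -/

set_option autoImplicit false
set_option linter.unusedSectionVars false

namespace Cfsg.Agent.XC

open Subgroup Cfsg.Agent.H72 Classical

universe u

variable {G : Type u} [Group G] [Finite G] {p : ℕ} [Fact p.Prime] {H : Subgroup G}

theorem sup_le_ncl (g : G) : H ⊔ cj g H ≤ normalClosure (H : Set G) :=
  sup_le le_normalClosure (cj_le_of_mem_normalizer (by rw [normalizer_eq_top]; trivial) le_normalClosure)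

theorem EC.fact (E : EC p H) (I : Ind p H) (hp : p ≠ 2) (hz : ¬ H ≤ center G) {g : G}
    (hg : g ∈ normalClosure (H : Set G)) : ∃ k, tau p H k ∧ g * k ∈ centralizer (H : Set G) := by
  let _ := Fintype.ofFinite G
  let W : G → Prop := fun x => ∃ k, tau p H k ∧ x * k ∈ centralizer (H : Set G)
  let V : Subgroup G :=
    { carrier := {a | ∀ x, W x ↔ W (a * x)}
      one_mem' := fun x => by rw [one_mul]
      mul_mem' := fun {a b} ha hb x => by rw [mul_assoc]; exact (hb x).trans (ha _)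
      inv_mem' := fun {a} ha x => by rw [ha (a⁻¹ * x), mul_inv_cancel_left] }
  have hV : normalClosure (H : Set G) ≤ V := by
    refine (closure_le V).2 fun a ha x => ?_
    obtain ⟨h, hh, c⟩ := Group.mem_conjugatesOfSet_iff.1 ha
    obtain ⟨y, rfl⟩ := isConj_iff.1 c
    refine ⟨E.shift I hp hz (conj_mem_cj hh), fun l => ?_⟩
    have := E.shift I hp hz (inv_mem (conj_mem_cj (g := y) hh)) l
    rwa [inv_mul_cancel_left] at this
  simpa using (hV hg 1).1 ⟨1, tau_one, by simp⟩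

theorem EC.fus (E : EC p H) (I : Ind p H) (hp : p ≠ 2) (hz : ¬ H ≤ center G) {g h : G}
    (hg : g ∈ normalClosure (H : Set G)) (hh : h ∈ H) (hh' : g * h * g⁻¹ ∈ H) : g * h * g⁻¹ = h := by
  obtain ⟨k, h1, h2⟩ := E.fact I hp hz (inv_mem hg)
  have e : g * h * g⁻¹ = k * h * k⁻¹ := by
    calc g * h * g⁻¹ = g * (h * (g⁻¹ * k)) * k⁻¹ := by group
      _ = _ := by rw [h2 h hh]; group
  rw [e] at hh' ⊢
  obtain ⟨K, hK, -⟩ := E.exK k
  have hL : h ∈ H ⊔ H72.cj k H := le_sup_left (a := H) hh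
  have h3 : h * k⁻¹ * h⁻¹ ∈ K := (hK _).2 ⟨mul_mem (mul_mem hL (inv_mem h1.1)) (inv_mem hL), by
    rw [ord_conj, orderOf_inv]; exact h1.2⟩
  have h4 := (hK _).1 (K.mul_mem ((hK _).2 h1) h3)
  refine mul_inv_eq_one.1 (E.eq_one (H.mul_mem hh' (H.inv_mem hh)) ?_)
  rw [show k * h * k⁻¹ * h⁻¹ = k * (h * k⁻¹ * h⁻¹) by group]
  exact h4.2

theorem EC.cls (E : EC p H) (I : Ind p H) (hp : p ≠ 2) (hz : ¬ H ≤ center G) {g h k : G}
    (hg : g ∈ normalClosure (H : Set G)) (hh : h ∈ H) (hc : h ∉ center G) (hk : tau p H k) :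
    tau p H (g * (k * h) * g⁻¹ * h⁻¹) := by
  obtain ⟨k', h', h1, h2, -, e'⟩ := E.ss_conj I ⟨k, h, hk, hh, hc, rfl⟩ g
  obtain ⟨e, n, he⟩ := ex_exp G p
  obtain ⟨a, a1, a2, -⟩ := E.part he hk hh
  obtain ⟨b, b1, b2, -⟩ := E.part he h1 h2
  rw [← e', conj_pow, a2] at b2
  have e2 : b⁻¹ * g * a * h * (b⁻¹ * g * a)⁻¹ = h' := by
    calc _ = b⁻¹ * (g * (a * h * a⁻¹) * g⁻¹) * b := by group
      _ = _ := by rw [b2]; group
  have := E.fus I hp hz (mul_mem (mul_mem (inv_mem (sup_le_ncl _ b1)) hg) (sup_le_ncl _ a1)) hh (e2 ▸ h2)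
  rw [e2] at this
  rw [e', this, mul_inv_cancel_right]
  exact h1

theorem EC.step (E : EC p H) (I : Ind p H) (hp : p ≠ 2) :
    ∃ N : Subgroup G, N.Normal ∧ ∀ k, k ∈ N ↔ tau p H k := by
  by_cases hz : H ≤ center G
  · refine ⟨⊥, inferInstance, fun k => ⟨fun h => mem_bot.1 h ▸ tau_one, fun h => mem_bot.2 ?_⟩⟩
    refine E.eq_one ((sup_le le_rfl ?_ : H ⊔ H72.cj k H ≤ H) h.1) h.2
    rintro _ ⟨y, hy, rfl⟩
    change k * y * k⁻¹ ∈ H
    rw [mem_center_iff.1 (hz hy) k, mul_inv_cancel_right]; exact hy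
  obtain ⟨h₀, hh₀, hc₀⟩ := SetLike.not_le_iff_exists.1 hz
  -- `S h` is the set `tau * h`
  let S : G → G → Prop := fun h x => tau p H (x * h⁻¹)
  have Sc : ∀ g ∈ normalClosure (H : Set G), ∀ h ∈ H, h ∉ center G → ∀ x, S h x → S h (g * x * g⁻¹) := by
    intro g hg h hh hc x hx
    have := E.cls I hp hz hg hh hc hx
    rwa [inv_mul_cancel_right] at this
  let M : Subgroup G :=
    { carrier := {m | ∀ x, S h₀ x ↔ S h₀ (x * m)}
      one_mem' := fun x => by rw [mul_one]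
      mul_mem' := fun {a b} ha hb x => by rw [← mul_assoc]; exact (ha x).trans (hb _)
      inv_mem' := fun {a} ha x => by rw [ha (x * a⁻¹), inv_mul_cancel_right] }
  have Sc' : ∀ g ∈ normalClosure (H : Set G), ∀ h ∈ H, h ∉ center G → ∀ x,
      S h x ↔ S h (g * x * g⁻¹) := fun g hg h hh hc x => ⟨Sc g hg h hh hc x, fun l => by
    simpa [mul_assoc] using Sc g⁻¹ (inv_mem hg) h hh hc _ l⟩
  have Mn : ∀ g ∈ normalClosure (H : Set G), ∀ m ∈ M, g⁻¹ * m * g ∈ M := by
    intro g hg m hm x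
    rw [Sc' g hg h₀ hh₀ hc₀ x, hm, Sc' g hg h₀ hh₀ hc₀ (x * _)]
    simp [mul_assoc]
  have Sm : ∀ h x, S h₀ x ↔ S (h₀ * h) (x * h) := fun h x => by simp [S, mul_assoc]
  have M1 : ∀ g ∈ normalClosure (H : Set G), ∀ h ∈ H, h₀ * h ∉ center G →
      g * h * g⁻¹ * h⁻¹ ∈ M := by
    intro g hg h hh hc x
    rw [Sc' g⁻¹ (inv_mem hg) h₀ hh₀ hc₀ x, Sm h, Sc' g hg _ (H.mul_mem hh₀ hh) hc, Sm h (x * _)]
    simp [mul_assoc]
  have M2 : ∀ g ∈ normalClosure (H : Set G), ∀ h ∈ H, h⁻¹ * (g * h * g⁻¹) ∈ M := by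
    intro g hg h hh
    by_cases c1 : h₀ * h ∈ center G
    · have c2 : h₀ * h⁻¹ ∉ center G := by
        intro c2
        have c3 : h₀ ^ 2 ∈ center G := by
          have := mul_mem c1 c2
          rwa [show h₀ * h * (h₀ * h⁻¹) = h₀ ^ 2 by
            rw [mul_assoc, ← mul_assoc h, E.comm hh hh₀, mul_inv_cancel_right, sq]] at this
        obtain ⟨n, hn⟩ := E.pow hh₀
        have co : (2 : ℕ).Coprime (orderOf h₀) := Nat.Coprime.coprime_dvd_right (orderOf_dvd_of_pow_eq_one hn)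
          (((Nat.coprime_primes Nat.prime_two Fact.out).2 hp.symm).pow_right n)
        obtain ⟨m, hm⟩ := exists_pow_eq_self_of_coprime co
        exact hc₀ (hm ▸ pow_mem c3 m)
      have := M.inv_mem (M1 g hg h⁻¹ (H.inv_mem hh) c2)
      simpa [mul_assoc] using this
    · have := Mn h (le_normalClosure hh) _ (M1 g hg h hh c1)
      simpa [mul_assoc] using this
  have hM : ∀ k, k ∈ M ↔ tau p H k := by
    intro k
    constructor
    · intro hk
      have h1 : S h₀ (h₀ * k) := (hk h₀).1 (by simpa [S] using tau_one)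
      simpa [mul_assoc] using tau_norm (inv_mem (le_normalizer hh₀)) h1
    · intro hk
      have hn : H ≤ normalizer (M : Set G) := fun y hy => mem_normalizer_of_conj_mem fun m hm => by
        simpa using Mn y⁻¹ (inv_mem (le_normalClosure hy)) m hm
      have h1 : k ∈ H ⊔ M := (sup_le le_sup_left ?_ : H ⊔ H72.cj k H ≤ H ⊔ M) hk.1
      · rw [← SetLike.mem_coe, coe_mul_of_left_le_normalizer_right H M hn] at h1
        obtain ⟨h, hh, m, hm, e⟩ := h1
        obtain ⟨n, hn⟩ := E.pow hh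
        exact mem_of_mod (Mn h (le_normalClosure hh)) (by rw [← e]; simpa using hm) hn hk.2
      · rintro _ ⟨y, hy, rfl⟩
        have := mul_mem (le_sup_left (b := M) hy) (le_sup_right (a := H) (M2 k (sup_le_ncl _ hk.1) y hy))
        rwa [mul_inv_cancel_left] at this
  refine ⟨M, ⟨fun m hm g => ?_⟩, hM⟩
  obtain ⟨k, h1, h2⟩ := E.ex g
  have h3 := (hM _).2 (tau_norm (cj_eq_cj.1 h2.symm) ((hM m).1 hm))
  have := M.mul_mem (M.mul_mem ((hM k).2 h1) h3) (M.inv_mem ((hM k).2 h1))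
  simpa [mul_assoc] using this

theorem map_cj {C : Subgroup G} (g : C) (A : Subgroup C) :
    (cj g A).map C.subtype = cj (g : G) (A.map C.subtype) := by
  unfold H72.cj
  rw [map_map, map_map]
  rfl

theorem tau_sub {C : Subgroup G} (hC : H ≤ C) (k : C) : tau p (H.subgroupOf C) k ↔ tau p H (k : G) := by
  unfold tau
  rw [orderOf_coe, ← mem_map_iff_mem C.subtype_injective, Subgroup.map_sup, map_cj, subgroupOf_map_subtype,
    inf_eq_left.2 hC]
  rfl

theorem EC.sub (E : EC p H) {C : Subgroup G} (hC : H ≤ C) : EC p (H.subgroupOf C) := by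
  refine ⟨E.pg.comap_subtype, ⟨⟨fun a b => Subtype.ext (Subtype.ext (E.comm a.2 b.2))⟩⟩, fun g => ?_⟩
  refine le_antisymm (fun x hx => (E.cl g).le ⟨?_, ?_⟩) (le_inf le_sup_left le_normalizer)
  · have := mem_map_of_mem C.subtype hx.1
    rw [Subgroup.map_sup, map_cj, subgroupOf_map_subtype, inf_eq_left.2 hC] at this
    exact this
  · have := hx.2
    rw [← subgroupOf_normalizer_eq hC] at this
    exact this

theorem main (hp : p ≠ 2) (n : ℕ) : ∀ (G : Type u) [Group G] [Finite G] (H : Subgroup G),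
    Nat.card G = n → EC p H → ∃ N : Subgroup G, N.Normal ∧ ∀ k, k ∈ N ↔ tau p H k := by
  induction n using Nat.strong_induction_on with
  | _ n ih =>
    intro G _ _ H hn E
    refine E.step (fun g g' a c h1 h2 h3 h4 h5 => ?_) hp
    set C := centralizer ({a} : Set G) with hC
    have le : ∀ x, a ∈ cj x H → cj x H ≤ C := fun x hx y hy =>
      mem_centralizer_singleton_iff.2 ((E.cj x).comm hy hx)
    have lt : Nat.card C < n := by
      refine hn ▸ lt_of_le_of_ne (card_le_card_group C) fun e => h3 ?_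
      have := eq_top_of_card_eq C e
      exact mem_center_iff.2 fun y => mem_centralizer_singleton_iff.1 (this ▸ mem_top y : y ∈ C)
    obtain ⟨N, hN, hN'⟩ := ih _ lt C _ rfl ((E.cj g).sub (le g h1))
    obtain ⟨k, k1, -, k3⟩ := (E.cj g).exeq (g' * g⁻¹)
    rw [cj_mul, cj_inv_cj] at k1 k3
    have kC : k ∈ C := sup_le (le g h1) (le g' h2) k1
    have cC : c ∈ C := mem_centralizer_singleton_iff.2 h5
    have h6 := hN.conj_mem' _ ((hN' ⟨c, cC⟩).2 ((tau_sub (le g h1) _).2 h4)) ⟨k, kC⟩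
    have h7 := tau_cj k ((tau_sub (le g h1) _).1 ((hN' _).1 h6))
    rw [k3] at h7
    simpa [mul_assoc] using h7

end Cfsg.Agent.XC
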