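import Cfsg.Agent.S3020

/-! Extremely closed abelian `p`-subgroups: the transversal of `p'`-elements. -/

set_option autoImplicit false
set_option linter.unusedSectionVars false

namespace Cfsg.Agent.XC

open Subgroup Cfsg.Agent.H72

variable {G : Type*} [Group G]

/-- the canonical conjugating elements -/
def tau (p : ℕ) (H : Subgroup G) (k : G) : Prop := k ∈ H ⊔ cj k H ∧ (orderOf k).Coprime p

structure EC (p : ℕ) (H : Subgroup G) : Prop where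
  pg : IsPGroup p H
  ab : IsMulCommutative H
  cl : Cfsg.IsExtremelyClosed H

variable {p : ℕ} {H : Subgroup G}

theorem ord_conj (g x : G) : orderOf (g * x * g⁻¹) = orderOf x :=
  (MulAut.conj g).orderOf_eq x

theorem pow_mod {M : Subgroup G} {h x : G} (hn : ∀ m ∈ M, h⁻¹ * m * h ∈ M) (hx : h⁻¹ * x ∈ M)
    (n : ℕ) : (h ^ n)⁻¹ * x ^ n ∈ M := by
  induction n with
  | zero => simp
  | succ n ih =>
    have := M.mul_mem (hn _ ih) hx
    rwa [show h⁻¹ * ((h ^ n)⁻¹ * x ^ n) * h * (h⁻¹ * x) = (h ^ (n + 1))⁻¹ * x ^ (n + 1) by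
      rw [pow_succ, pow_succ]; group] at this

theorem mem_of_mod {M : Subgroup G} {h x : G} (hn : ∀ m ∈ M, h⁻¹ * m * h ∈ M) (hx : h⁻¹ * x ∈ M)
    {n : ℕ} (hh : h ^ p ^ n = 1) (co : (orderOf x).Coprime p) : x ∈ M := by
  have h1 := pow_mod hn hx (p ^ n)
  rw [hh, inv_one, one_mul] at h1
  obtain ⟨m, hm⟩ := exists_pow_eq_self_of_coprime (x := x) (co.symm.pow_left n)
  exact hm ▸ M.pow_mem h1 m

theorem EC.pow (E : EC p H) {h : G} (hh : h ∈ H) : ∃ n, h ^ p ^ n = 1 := by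
  obtain ⟨n, hn⟩ := E.pg ⟨h, hh⟩
  exact ⟨n, congrArg Subtype.val hn⟩

theorem EC.eq_one (E : EC p H) {h : G} (hh : h ∈ H) (co : (orderOf h).Coprime p) : h = 1 := by
  obtain ⟨n, hn⟩ := E.pow hh
  exact mem_bot.1 (mem_of_mod (M := ⊥) (h := h) (by simp) (by simp) hn co)

theorem EC.comm (E : EC p H) {a b : G} (ha : a ∈ H) (hb : b ∈ H) : a * b = b * a :=
  congrArg Subtype.val (E.ab.is_comm.comm (⟨a, ha⟩ : H) ⟨b, hb⟩)

theorem EC.cj (E : EC p H) (g : G) : EC p (cj g H) := by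
  refine ⟨IsPGroup_cj g E.pg, ⟨⟨fun a b => Subtype.ext ?_⟩⟩, fun x => ?_⟩
  · have := E.comm (mem_cj.1 a.2) (mem_cj.1 b.2)
    have h2 := congrArg (fun y => g * y * g⁻¹) this
    simpa [mul_assoc] using h2
  · have := congrArg (H72.cj g) (E.cl (g⁻¹ * x * g))
    rw [cj_inf, cj_sup, cj_normalizer] at this
    change (H72.cj g H ⊔ H72.cj g (H72.cj (g⁻¹ * x * g) H)) ⊓ _ = _ at this
    rw [← cj_mul, show g * (g⁻¹ * x * g) = x * g by group, cj_mul] at this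
    exact this

theorem tau_one : tau p H 1 := ⟨one_mem _, by simp⟩

theorem tau_cj (g : G) {k : G} (h : tau p H k) : tau p (cj g H) (g * k * g⁻¹) := by
  refine ⟨?_, by rw [ord_conj]; exact h.2⟩
  rw [← cj_mul, show g * k * g⁻¹ * g = g * k by group, cj_mul, ← cj_sup]
  exact conj_mem_cj h.1

theorem tau_cj' (g : G) {k : G} (h : tau p (cj g H) k) : tau p H (g⁻¹ * k * g) := by
  have := tau_cj g⁻¹ h
  rwa [cj_inv_cj, inv_inv] at this

theorem tau_norm {g k : G} (hg : g ∈ normalizer (H : Set G)) (h : tau p H k) :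
    tau p H (g * k * g⁻¹) := by
  have := tau_cj g h
  rwa [cj_eq_of_mem_normalizer hg] at this

variable [Finite G] [Fact p.Prime]

theorem EC.exK (E : EC p H) (g : G) : ∃ K : Subgroup G,
    (∀ x, x ∈ K ↔ x ∈ H ⊔ H72.cj g H ∧ (orderOf x).Coprime p) ∧
      ∀ x ∈ H ⊔ H72.cj g H, ∃ h ∈ H, h⁻¹ * x ∈ K := by
  obtain ⟨h1, -⟩ := S3020.result H E.pg E.ab E.cl g _ rfl
  set L := H ⊔ H72.cj g H with hL
  set K := (pPrimeCore p L).map L.subtype with hK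
  have nm : ∀ x ∈ L, ∀ k ∈ K, x⁻¹ * k * x ∈ K := by
    rintro x hx _ ⟨k, hk, rfl⟩
    exact ⟨_, (Subgroup.sSup_normal _ (fun _ h => h.1) : (pPrimeCore p L).Normal).conj_mem' k hk ⟨x, hx⟩, rfl⟩
  have dec : ∀ x ∈ L, ∃ h ∈ H, h⁻¹ * x ∈ K := by
    intro x hx
    rw [← h1, ← SetLike.mem_coe, coe_mul_of_left_le_normalizer_right H K (fun y hy =>
      inv_inv y ▸ inv_mem (mem_normalizer_of_conj_mem fun k hk => by
        simpa using nm y (le_sup_left (a := H) hy) k hk))] at hx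
    obtain ⟨h, hh, k, hk, rfl⟩ := hx
    exact ⟨h, hh, by simpa using hk⟩
  refine ⟨K, fun x => ⟨?_, fun ⟨hx, co⟩ => ?_⟩, dec⟩
  · rintro ⟨k, hk, rfl⟩
    refine ⟨k.2, ?_⟩
    have := orderOf_dvd_natCard (⟨k, hk⟩ : pPrimeCore p L)
    rw [← orderOf_coe, ← orderOf_coe] at this
    exact Nat.Coprime.coprime_dvd_left this H44.pPrimeCore_coprime
  · obtain ⟨h, hh, hk⟩ := dec x hx
    obtain ⟨n, hn⟩ := E.pow hh
    exact mem_of_mod (nm h (le_sup_left (a := H) hh)) hk hn co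

theorem EC.syl (E : EC p H) (g : G) : IsSylowIn p H (H ⊔ H72.cj g H) := by
  refine ⟨le_sup_left, E.pg, fun Q hQ h1 h2 => ?_⟩
  by_contra hne
  have := lt_inf_normalizer_of_isPGroup hQ (lt_of_le_of_ne h1 (Ne.symm hne))
  exact this.not_ge ((inf_le_inf_right _ h2).trans (E.cl g).le)

theorem EC.one_of (E : EC p H) {g x : G} (hx : x ∈ H ⊔ H72.cj g H) (co : (orderOf x).Coprime p)
    (hn : x ∈ normalizer (H : Set G)) : x = 1 :=
  E.eq_one ((E.cl g).le ⟨hx, hn⟩) co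

/-- every `p`-subgroup of `⟨H, H^g⟩` is conjugated into `H` by a `p'`-element -/
theorem EC.exle (E : EC p H) (g : G) {Q : Subgroup G} (hQ : IsPGroup p Q) (hle : Q ≤ H ⊔ H72.cj g H) :
    ∃ k ∈ H ⊔ H72.cj g H, (orderOf k).Coprime p ∧ Q ≤ H72.cj k H := by
  obtain ⟨K, hK, dec⟩ := E.exK g
  obtain ⟨x, hx, h⟩ := (E.syl g).exists_cj_le hQ hle
  obtain ⟨y, hy, hk⟩ := dec x hx
  have := (hK _).1 (K.inv_mem hk)
  refine ⟨_, this.1, this.2, ?_⟩
  rw [mul_inv_rev, inv_inv, cj_mul, cj_eq_of_mem hy]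
  exact (cj_le_iff x).1 h

theorem EC.exeq (E : EC p H) (g : G) :
    ∃ k ∈ H ⊔ H72.cj g H, (orderOf k).Coprime p ∧ H72.cj k H = H72.cj g H := by
  obtain ⟨k, h1, h2, h3⟩ := E.exle g (IsPGroup_cj g E.pg) le_sup_right
  exact ⟨k, h1, h2, (eq_of_le_of_card_ge h3 (by rw [card_cj, card_cj])).symm⟩

theorem cj_eq_cj {a b : G} : cj a H = cj b H ↔ b⁻¹ * a ∈ normalizer (H : Set G) := by
  rw [← cj_eq_iff, cj_mul, ← cj_inj b⁻¹, cj_inv_cj]

theorem EC.uniq' (E : EC p H) {g a b : G} (ha : a ∈ H ⊔ H72.cj g H) (ca : (orderOf a).Coprime p)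
    (hb : b ∈ H ⊔ H72.cj g H) (cb : (orderOf b).Coprime p) (e : H72.cj a H = H72.cj b H) : a = b := by
  obtain ⟨K, hK, -⟩ := E.exK g
  have := (hK _).1 (K.mul_mem (K.inv_mem ((hK b).2 ⟨hb, cb⟩)) ((hK a).2 ⟨ha, ca⟩))
  exact (inv_mul_eq_one.1 (E.one_of this.1 this.2 (cj_eq_cj.1 e))).symm

theorem EC.tau_of (E : EC p H) {g k : G} (hk : k ∈ H ⊔ H72.cj g H) (co : (orderOf k).Coprime p) :
    tau p H k := by
  obtain ⟨k', h1, h2, h3⟩ := E.exeq k
  have hle : H ⊔ H72.cj k H ≤ H ⊔ H72.cj g H := sup_le le_sup_left (cj_le_of_mem hk le_sup_left)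
  exact ⟨E.uniq' (hle h1) h2 hk co h3 ▸ h1, co⟩

theorem EC.ex (E : EC p H) (g : G) : ∃ k, tau p H k ∧ H72.cj k H = H72.cj g H := by
  obtain ⟨k, h1, h2, h3⟩ := E.exeq g
  exact ⟨k, E.tau_of h1 h2, h3⟩

theorem EC.uniq (E : EC p H) {a b : G} (ha : tau p H a) (hb : tau p H b)
    (e : H72.cj a H = H72.cj b H) : a = b :=
  E.uniq' ha.1 ha.2 (e ▸ hb.1) hb.2 e

theorem EC.tau_inv (E : EC p H) {k : G} (hk : tau p H k) : tau p H k⁻¹ :=
  E.tau_of (inv_mem hk.1) (by rw [orderOf_inv]; exact hk.2)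

theorem EC.dec_uniq (E : EC p H) {h h' k k' : G} (hh : h ∈ H) (hh' : h' ∈ H) (hk : tau p H k)
    (hk' : tau p H k') (e : k * h = k' * h') : k = k' ∧ h = h' := by
  have h1 : k = k' := E.uniq hk hk' (by
    rw [← cj_eq_of_mem hh, ← cj_mul, e, cj_mul, cj_eq_of_mem hh', cj_eq_of_mem hh])
  subst h1
  exact ⟨rfl, mul_left_cancel e⟩

/-- an exponent that projects every element to its `p`-part -/
theorem ex_exp (G : Type*) [Group G] [Finite G] (p : ℕ) [hp : Fact p.Prime] : ∃ e n : ℕ,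
    ∀ x : G, (x ^ e) ^ p ^ n = 1 ∧ (orderOf ((x ^ e)⁻¹ * x)).Coprime p ∧
      (x ^ p ^ n = 1 → x ^ e = x) := by
  obtain ⟨n, m, hm, e⟩ := Nat.exists_eq_pow_mul_and_not_dvd (Nat.card_pos (α := G)).ne' p hp.out.ne_one
  have co : (p ^ n).Coprime m := ((Nat.Prime.coprime_iff_not_dvd hp.out).2 hm).pow_left n
  obtain ⟨a, h1, h2⟩ := Nat.chineseRemainder co 1 0
  refine ⟨a, n, fun x => ⟨?_, ?_, fun h => ?_⟩⟩
  · obtain ⟨c, rfl⟩ := (Nat.modEq_zero_iff_dvd).1 h2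
    rw [← pow_mul, show m * c * p ^ n = p ^ n * m * c by ring, ← e, pow_mul, pow_card_eq_one', one_pow]
  · refine Nat.Coprime.coprime_dvd_left (orderOf_dvd_of_pow_eq_one (n := m) ?_)
      ((Nat.Prime.coprime_iff_not_dvd hp.out).2 hm).symm
    rw [((Commute.refl x).pow_left a).inv_left.mul_pow, inv_pow, inv_mul_eq_one, ← pow_mul,
      pow_eq_pow_iff_modEq]
    refine Nat.ModEq.of_dvd (orderOf_dvd_natCard x) ?_
    rw [e]
    simpa using h1.mul_right' m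
  · conv_rhs => rw [← pow_one x]
    rw [pow_eq_pow_iff_modEq]
    exact h1.of_dvd (orderOf_dvd_of_pow_eq_one h)

end Cfsg.Agent.XC
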