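import Cfsg.Agent.XC.A

/-! Extremely closed abelian `p`-subgroups: the invariant set and the counting argument. -/

set_option autoImplicit false
set_option linter.unusedSectionVars false

namespace Cfsg.Agent.XC

open Subgroup Cfsg.Agent.H72 Classical

variable {G : Type*} [Group G]

def SS (p : ℕ) (H : Subgroup G) (b : G) : Prop :=
  ∃ k h, tau p H k ∧ h ∈ H ∧ h ∉ center G ∧ b = k * h

def Star (p : ℕ) (H : Subgroup G) (b : G) : Prop :=
  ∃ g a c, a ∈ cj g H ∧ a ∉ center G ∧ tau p (cj g H) c ∧ c * a = a * c ∧ b = c * a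

/-- the inductive hypothesis, in the form in which it is used -/
def Ind (p : ℕ) (H : Subgroup G) : Prop :=
  ∀ g g' a c, a ∈ cj g H → a ∈ cj g' H → a ∉ center G → tau p (cj g H) c → c * a = a * c →
    tau p (cj g' H) c

variable {p : ℕ} {H : Subgroup G}

theorem conj_center {g a : G} (h : g * a * g⁻¹ ∈ center G) : a ∈ center G := by
  have := (inferInstance : (center G).Normal).conj_mem' _ h g
  simpa [mul_assoc] using this

theorem Star.conj {b : G} (h : Star p H b) (x : G) : Star p H (x * b * x⁻¹) := by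
  obtain ⟨g, a, c, h1, h2, h3, h4, rfl⟩ := h
  refine ⟨x * g, x * a * x⁻¹, x * c * x⁻¹, ?_, fun h => h2 (conj_center h), ?_, ?_, by group⟩
  · rw [cj_mul]; exact conj_mem_cj h1
  · rw [cj_mul]; exact tau_cj x h3
  · calc _ = x * (c * a) * x⁻¹ := by group
      _ = _ := by rw [h4]; group

variable [Finite G] [Fact p.Prime]

theorem EC.part (E : EC p H) {e n : ℕ} (he : ∀ x : G, (x ^ e) ^ p ^ n = 1 ∧
    (orderOf ((x ^ e)⁻¹ * x)).Coprime p ∧ (x ^ p ^ n = 1 → x ^ e = x)) {k h : G} (hk : tau p H k)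
    (hh : h ∈ H) : ∃ k₁ ∈ H ⊔ H72.cj k H, (k * h) ^ e = k₁ * h * k₁⁻¹ ∧
      tau p (H72.cj k₁ H) (((k * h) ^ e)⁻¹ * (k * h)) := by
  obtain ⟨K, hK, -⟩ := E.exK k
  have hL : h ∈ H ⊔ H72.cj k H := le_sup_left (a := H) hh
  have hb : k * h ∈ H ⊔ H72.cj k H := mul_mem hk.1 hL
  have nm : ∀ x ∈ H ⊔ H72.cj k H, ∀ y ∈ K, x⁻¹ * y * x ∈ K := fun x hx y hy =>
    (hK _).2 ⟨mul_mem (mul_mem (inv_mem hx) ((hK _).1 hy).1) hx, by
      have := ord_conj x⁻¹ y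
      rw [inv_inv] at this
      rw [this]; exact ((hK _).1 hy).2⟩
  set a := (k * h) ^ e with ha
  have haL : a ∈ H ⊔ H72.cj k H := pow_mem hb e
  obtain ⟨k₁, h1, h2, h3⟩ := E.exle k (Q := zpowers a) (fun ⟨y, hy⟩ => ⟨n, Subtype.ext (by
    obtain ⟨i, rfl⟩ := hy
    change (a ^ i) ^ p ^ n = 1
    rw [← zpow_natCast, ← zpow_mul, mul_comm, zpow_mul, zpow_natCast, (he _).1, one_zpow])⟩)
    ((zpowers_le).2 haL)
  have k1 := (hK _).2 ⟨h1, h2⟩
  have h4 := mem_cj.1 (h3 (mem_zpowers a))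
  have hc : a⁻¹ * (k * h) ∈ K := (hK _).2 ⟨mul_mem (inv_mem haL) hb, (he _).2.1⟩
  have h5 : (k₁⁻¹ * a * k₁)⁻¹ * h ∈ K := by
    have := K.mul_mem (K.mul_mem (K.mul_mem (K.inv_mem k1) (nm a haL _ k1)) hc)
      (nm h hL _ (K.inv_mem ((hK _).2 hk)))
    rwa [show k₁⁻¹ * (a⁻¹ * k₁ * a) * (a⁻¹ * (k * h)) * (h⁻¹ * k⁻¹ * h) = (k₁⁻¹ * a * k₁)⁻¹ * h by
      group] at this
  have h6 := inv_mul_eq_one.1 (E.eq_one (H.mul_mem (H.inv_mem h4) hh) ((hK _).1 h5).2)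
  refine ⟨k₁, h1, by rw [← h6]; group, ?_⟩
  have h7 := (hK _).1 (nm k₁ h1 _ hc)
  have := tau_cj k₁ (E.tau_of h7.1 h7.2)
  rwa [show k₁ * (k₁⁻¹ * (a⁻¹ * (k * h)) * k₁) * k₁⁻¹ = a⁻¹ * (k * h) by group] at this

theorem EC.star (E : EC p H) {b : G} (h : SS p H b) : Star p H b := by
  obtain ⟨k, h, hk, hh, hz, rfl⟩ := h
  obtain ⟨e, n, he⟩ := ex_exp G p
  obtain ⟨k₁, -, h2, h3⟩ := E.part he hk hh
  have c : Commute (((k * h) ^ e)⁻¹ * (k * h)) ((k * h) ^ e) :=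
    ((Commute.refl _).inv_left).mul_left ((Commute.refl _).pow_right e)
  refine ⟨k₁, (k * h) ^ e, _, h2 ▸ conj_mem_cj hh, fun l => hz (conj_center (h2 ▸ l)), h3, c.eq, ?_⟩
  rw [c.eq]; group

theorem EC.ss (E : EC p H) (I : Ind p H) {b : G} (h : Star p H b) : SS p H b := by
  have g1 : ∀ a : G, ∃ g, (∃ g', a ∈ H72.cj g' H) → a ∈ H72.cj g H := fun a => by
    by_cases h : ∃ g', a ∈ H72.cj g' H
    · exact ⟨h.choose, fun _ => h.choose_spec⟩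
    · exact ⟨1, fun l => absurd l h⟩
  have g2 : ∀ g k : G, ∃ c, tau p (H72.cj g H) c ∧ H72.cj c (H72.cj g H) = H72.cj k H := fun g k => by
    obtain ⟨c, h1, h2⟩ := (E.cj g).ex (k * g⁻¹)
    exact ⟨c, h1, by rw [h2, cj_mul, cj_inv_cj]⟩
  choose γ hγ using g1
  choose κ hκ using g2
  let X : Set (G × G) := {x | tau p H x.1 ∧ x.2 ∈ H ∧ x.2 ∉ center G}
  have e1 : {b | SS p H b} = (fun x : G × G => x.1 * x.2) '' X := by
    ext b
    exact ⟨fun ⟨k, h, h1, h2, h3, h4⟩ => ⟨(k, h), ⟨h1, h2, h3⟩, h4.symm⟩,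
      fun ⟨x, ⟨h1, h2, h3⟩, h4⟩ => ⟨_, _, h1, h2, h3, h4.symm⟩⟩
  have e2 : {b | Star p H b} ⊆ (fun x : G × G =>
      κ (γ (x.1 * x.2 * x.1⁻¹)) x.1 * (x.1 * x.2 * x.1⁻¹)) '' X := by
    rintro _ ⟨g, a, c, h1, h2, h3, h4, rfl⟩
    have h5 := hγ a ⟨g, h1⟩
    have h6 := I g _ a c h1 h5 h2 h3 h4
    obtain ⟨k, h7, h8⟩ := E.ex (c * γ a)
    rw [cj_mul] at h8
    have h9 : a ∈ H72.cj k H := by
      rw [h8, mem_cj, mul_assoc, ← h4, inv_mul_cancel_left]; exact h5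
    have e : k * (k⁻¹ * a * k) * k⁻¹ = a := by group
    refine ⟨(k, k⁻¹ * a * k), ⟨h7, mem_cj.1 h9, fun l => h2 ?_⟩, ?_⟩
    · exact e ▸ (inferInstance : (center G).Normal).conj_mem _ l k
    · change κ (γ (k * (k⁻¹ * a * k) * k⁻¹)) k * (k * (k⁻¹ * a * k) * k⁻¹) = c * a
      rw [e, (E.cj _).uniq (hκ (γ a) k).1 h6 ((hκ (γ a) k).2.trans h8)]
  have e3 : {b | SS p H b} = {b | Star p H b} := by
    refine Set.eq_of_subset_of_ncard_le (fun b hb => E.star hb) ?_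
    rw [e1, Set.InjOn.ncard_image fun x hx y hy e => by
      have := E.dec_uniq hx.2.1 hy.2.1 hx.1 hy.1 e
      exact Prod.ext this.1 this.2]
    exact (Set.ncard_le_ncard e2).trans (Set.ncard_image_le (Set.toFinite _))
  exact (e3.ge h :)

theorem EC.ss_conj (E : EC p H) (I : Ind p H) {b : G} (h : SS p H b) (x : G) :
    SS p H (x * b * x⁻¹) := E.ss I ((E.star h).conj x)

theorem ss_cj {g b : G} : SS p (cj g H) (g * b * g⁻¹) ↔ SS p H b := by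
  constructor
  · rintro ⟨k, h, h1, h2, h3, e⟩
    refine ⟨_, _, tau_cj' g h1, mem_cj.1 h2, fun l => h3 (conj_center (g := g⁻¹) (by simpa using l)), ?_⟩
    calc b = g⁻¹ * (g * b * g⁻¹) * g := by group
      _ = _ := by rw [e]; group
  · rintro ⟨k, h, h1, h2, h3, rfl⟩
    exact ⟨_, _, tau_cj g h1, conj_mem_cj h2, fun l => h3 (conj_center l), by group⟩

end Cfsg.Agent.XC
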