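import Cfsg.Agent.XC.B

/-! Extremely closed abelian `p`-subgroups: the counting argument. -/

set_option autoImplicit false
set_option linter.unusedSectionVars false

namespace Cfsg.Agent.XC

open Subgroup Cfsg.Agent.H72 Classical Finset

variable {G : Type*} [Group G] [Fintype G] {p : ℕ} [Fact p.Prime] {H : Subgroup G}

noncomputable def RR (A : Subgroup G) : Finset G := univ.filter fun h => h ∈ A ∧ h ∉ center G
noncomputable def ZZ (A : Subgroup G) : Finset G := univ.filter fun h => h ∈ A ∧ h ∈ center G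
noncomputable def AA (A : Subgroup G) : Finset G := univ.filter fun h => h ∈ A
noncomputable def cnt (p : ℕ) (A : Subgroup G) (P : G → Prop) : ℕ :=
  #(univ.filter fun k => tau p A k ∧ P k)

theorem EC.count (E : EC p H) (P : G → Prop) :
    #(univ.filter fun s => SS p H s ∧ P s) = ∑ h ∈ RR H, cnt p H fun k => P (k * h) := by
  unfold cnt
  rw [← card_sigma]
  symm
  refine card_bij (fun x _ => x.2 * x.1) ?_ ?_ ?_
  · rintro ⟨h, k⟩ hx
    simp only [RR, mem_sigma, mem_filter, mem_univ, true_and] at hx ⊢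
    exact ⟨⟨k, h, hx.2.1, hx.1.1, hx.1.2, rfl⟩, hx.2.2⟩
  · rintro ⟨h, k⟩ hx ⟨h', k'⟩ hy e
    simp only [RR, mem_sigma, mem_filter, mem_univ, true_and] at hx hy
    obtain ⟨rfl, rfl⟩ := E.dec_uniq hx.1.1 hy.1.1 hx.2.1 hy.2.1 e
    rfl
  · intro b hb
    simp only [mem_filter, mem_univ, true_and] at hb
    obtain ⟨⟨k, h, h1, h2, h3, rfl⟩, h4⟩ := hb
    exact ⟨⟨h, k⟩, by simp only [RR, mem_sigma, mem_filter, mem_univ, true_and]; tauto, rfl⟩

theorem card_RR (g : G) : #(RR (cj g H)) = #(RR H) := by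
  symm
  refine card_bij (fun x _ => g * x * g⁻¹) ?_ ?_ ?_
  · intro x hx
    simp only [RR, mem_filter, mem_univ, true_and] at hx ⊢
    exact ⟨conj_mem_cj hx.1, fun l => hx.2 (conj_center l)⟩
  · intro x _ y _ e
    simpa using e
  · intro b hb
    simp only [RR, mem_filter, mem_univ, true_and] at hb ⊢
    exact ⟨g⁻¹ * b * g, ⟨mem_cj.1 hb.1, fun l => hb.2 (conj_center (g := g⁻¹) (by simpa using l))⟩,
      by group⟩

theorem sum_AA (A : Subgroup G) (f : G → ℕ) :
    ∑ h ∈ AA A, f h = ∑ h ∈ RR A, f h + ∑ h ∈ ZZ A, f h := by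
  rw [← sum_filter_add_sum_filter_not (AA A) (fun h => h ∉ center G)]
  simp only [AA, RR, ZZ, filter_filter, not_not]

theorem sum_shift (A : Subgroup G) (f : G → ℕ) {a : G} (ha : a ∈ A) :
    ∑ h ∈ AA A, f (h * a) = ∑ h ∈ AA A, f h := by
  refine sum_bij (fun x _ => x * a) ?_ ?_ ?_ fun _ _ => rfl
  · intro x hx
    simp only [AA, mem_filter, mem_univ, true_and] at hx ⊢
    exact A.mul_mem hx ha
  · intro x _ y _ e
    simpa using e
  · intro b hb
    simp only [AA, mem_filter, mem_univ, true_and] at hb ⊢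
    exact ⟨b * a⁻¹, A.mul_mem hb (A.inv_mem ha), by group⟩

theorem EC.ident (E : EC p H) (I : Ind p H) (g : G) {D : Subgroup G} (hD : H ≤ D) (x : G) :
    ∑ h ∈ AA (H72.cj g H), cnt p (H72.cj g H) (fun k => k * (h * x) ∈ D) =
      #(RR H) * cnt p H (fun k => x * k ∈ D) +
        #(ZZ (H72.cj g H)) * cnt p (H72.cj g H) (fun k => k * x ∈ D) := by
  rw [sum_AA]
  congr 1
  · have h1 := (E.cj g).count (fun s => s * x ∈ D)
    have h2 := E.count (fun s => x * s ∈ D)
    simp only [mul_assoc] at h1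
    rw [← h1, ← smul_eq_mul, ← sum_const, sum_congr rfl (g := fun h => cnt p H fun k => x * (k * h) ∈ D), ← h2]
    · refine card_bij (fun s _ => x⁻¹ * s * x) ?_ ?_ ?_
      · intro s hs
        simp only [mem_filter, mem_univ, true_and] at hs ⊢
        refine ⟨?_, by simpa [mul_assoc] using hs.2⟩
        have h3 : SS p H (g⁻¹ * s * g) := (ss_cj (g := g)).1 (by simpa [mul_assoc] using hs.1)
        simpa [mul_assoc] using E.ss_conj I h3 (x⁻¹ * g)
      · intro a _ b _ e
        simpa using e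
      · intro b hb
        simp only [mem_filter, mem_univ, true_and] at hb ⊢
        refine ⟨x * b * x⁻¹, ⟨?_, by simpa using hb.2⟩, by group⟩
        simpa [mul_assoc] using (ss_cj (g := g)).2 (E.ss_conj I hb.1 (g⁻¹ * x))
    · intro h hh
      simp only [RR, mem_filter, mem_univ, true_and] at hh
      unfold cnt
      congr 1
      ext k
      simp only [mem_filter, mem_univ, true_and, ← mul_assoc, D.mul_mem_cancel_right (hD hh.1)]
  · rw [← smul_eq_mul, ← sum_const]
    refine sum_congr rfl fun h hh => ?_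
    simp only [ZZ, mem_filter, mem_univ, true_and] at hh
    have h1 : h ∈ D := hD (by
      have := mem_cj.1 hh.1
      rwa [mul_assoc, ← mem_center_iff.1 hh.2 g, inv_mul_cancel_left] at this)
    unfold cnt
    congr 1
    ext k
    simp only [mem_filter, mem_univ, true_and]
    rw [← mem_center_iff.1 hh.2 x, ← mul_assoc, D.mul_mem_cancel_right h1]

theorem EC.cnt_one (E : EC p H) (x : G) :
    cnt p H (fun k => x * k ∈ normalizer (H : Set G)) = 1 := by
  obtain ⟨k, h1, h2⟩ := E.ex x⁻¹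
  refine card_eq_one.2 ⟨k, ?_⟩
  ext k'
  simp only [mem_filter, mem_univ, true_and, Finset.mem_singleton]
  have e : ∀ y : G, x * y ∈ normalizer (H : Set G) ↔ H72.cj y H = H72.cj x⁻¹ H := fun y => by
    rw [cj_eq_cj, inv_inv]
  rw [e]
  exact ⟨fun h => E.uniq h.1 h1 (h.2.trans h2.symm), fun h => h ▸ ⟨h1, h2⟩⟩

theorem cnt_mono {P Q : G → Prop} (h : ∀ k, P k → Q k) : cnt p H P ≤ cnt p H Q :=
  card_le_card fun k => by
    simp only [mem_filter, mem_univ, true_and]
    exact fun l => ⟨l.1, h k l.2⟩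

theorem EC.lt (E : EC p H) (hp : p ≠ 2) (hz : ¬ H ≤ center G) : 0 < #(ZZ H) ∧ #(ZZ H) < #(RR H) := by
  have h1 := sum_AA H (fun _ => 1)
  simp only [sum_const, smul_eq_mul, mul_one] at h1
  have h2 : #(AA H) = Nat.card H := by
    rw [Nat.card_eq_fintype_card, Fintype.card_subtype]; rfl
  have h3 : #(ZZ H) = Nat.card (H ⊓ center G : Subgroup G) := by
    rw [Nat.card_eq_fintype_card, Fintype.card_subtype]
    unfold ZZ
    congr 1
    ext x
    simp only [mem_filter, mem_univ, true_and, Subgroup.mem_inf]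
  obtain ⟨i, hi⟩ := card_dvd_of_le (inf_le_left : H ⊓ center G ≤ H)
  obtain ⟨n, hn⟩ := IsPGroup.iff_card.1 E.pg
  have h4 : i ∣ p ^ n := hn ▸ hi ▸ dvd_mul_left _ _
  obtain ⟨j, -, rfl⟩ := (Nat.dvd_prime_pow Fact.out).1 h4
  have h5 : j ≠ 0 := by
    rintro rfl
    exact hz (inf_eq_left.1 (eq_of_le_of_card_ge inf_le_left (by rw [hi]; simp)))
  have h6 : 3 ≤ p ^ j := by
    have := (Fact.out : p.Prime).two_le
    exact le_trans (by omega) (Nat.le_self_pow h5 p)
  have h7 : 0 < Nat.card (H ⊓ center G : Subgroup G) := Nat.card_pos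
  rw [← h3] at hi h7
  refine ⟨h7, ?_⟩
  nlinarith

theorem EC.shift (E : EC p H) (I : Ind p H) (hp : p ≠ 2) (hz : ¬ H ≤ center G) {g a x : G}
    (ha : a ∈ H72.cj g H) (hx : ∃ k, tau p H k ∧ x * k ∈ centralizer (H : Set G)) :
    ∃ k, tau p H k ∧ a * x * k ∈ centralizer (H : Set G) := by
  obtain ⟨z0, z1⟩ := (E.cj g).lt hp (fun l => hz fun y hy => conj_center (l (conj_mem_cj hy)))
  rw [card_RR] at z1
  have inv : ∀ D : Subgroup G, H ≤ D → ∀ y, ∀ b ∈ H72.cj g H,
      #(RR H) * cnt p H (fun k => b * y * k ∈ D) +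
        #(ZZ (H72.cj g H)) * cnt p (H72.cj g H) (fun k => k * (b * y) ∈ D) =
      #(RR H) * cnt p H (fun k => y * k ∈ D) +
        #(ZZ (H72.cj g H)) * cnt p (H72.cj g H) (fun k => k * y ∈ D) := by
    intro D hD y b hb
    rw [← E.ident I g hD, ← E.ident I g hD,
      ← sum_shift _ (fun h => cnt p (H72.cj g H) (fun k => k * (h * y) ∈ D)) hb]
    simp only [mul_assoc]
  have one : ∀ y, cnt p (H72.cj g H) (fun k => k * y ∈ normalizer (H : Set G)) = 1 := by
    intro y
    have h1 := E.ident I g (le_normalizer (H := H)) y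
    rw [sum_congr rfl (g := fun _ => cnt p (H72.cj g H) (fun k => k * y ∈ normalizer (H : Set G))),
      sum_AA, sum_const, sum_const, card_RR, E.cnt_one, smul_eq_mul, smul_eq_mul] at h1
    · exact Nat.eq_of_mul_eq_mul_left (by omega) (Nat.add_right_cancel h1)
    · intro b hb
      simp only [AA, mem_filter, mem_univ, true_and] at hb
      have h2 := inv _ (le_normalizer (H := H)) y b hb
      rw [E.cnt_one, E.cnt_one] at h2
      exact Nat.eq_of_mul_eq_mul_left z0 (Nat.add_left_cancel h2)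
  have h1 := inv (centralizer (H : Set G)) (fun y hy z hz => E.comm hz hy) x a ha
  have h2 : 0 < cnt p H (fun k => x * k ∈ centralizer (H : Set G)) := by
    obtain ⟨k, hk⟩ := hx
    exact card_pos.2 ⟨k, by simpa using hk⟩
  have h3 := (cnt_mono (p := p) (H := H72.cj g H)
    (fun k (l : k * (a * x) ∈ centralizer (H : Set G)) => centralizer_le_normalizer _ l)).trans (one _).le
  have h4 : 0 < cnt p H (fun k => a * x * k ∈ centralizer (H : Set G)) := by
    by_contra h5
    rw [Nat.eq_zero_of_not_pos h5] at h1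
    nlinarith
  obtain ⟨k, hk⟩ := card_pos.1 h4
  exact ⟨k, by simpa using hk⟩

end Cfsg.Agent.XC
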